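import Mathlib
import Cfsg.Agent.H957.TL.Det
import Cfsg.Agent.H957.TL.Obs

/-!
# Factorization of a scalar plus a rank one matrix (helper376, for Theorem L)

`A = a + u φ` with `a ≠ 0` is a product `X Y` with prescribed characteristic polynomials `f` (irreducible)
and `g` of `X` and `Y`, as soon as the determinants agree and `a X⁻¹` does not have characteristic
polynomial `g`.
-/

set_option autoImplicit false

namespace Cfsg.Agent.H376.TL

open Matrix Polynomial Cfsg.Agent.H957.TL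

variable {F : Type*} [Field F]

/-- a matrix of rank one is `u φ` -/
theorem exists_vecMulVec {m n : ℕ} (A : Matrix (Fin m) (Fin n) F) (h : A.rank = 1) :
    ∃ (u : Fin m → F) (φ : Fin n → F), u ≠ 0 ∧ φ ≠ 0 ∧ A = vecMulVec u φ := by
  rw [Matrix.rank, finrank_eq_one_iff'] at h
  obtain ⟨⟨v, hv⟩, hv0, hall⟩ := h
  have hv0' : v ≠ 0 := fun h => hv0 (Subtype.ext h)
  have hcol : ∀ j : Fin n, ∃ c : F, c • v = A.col j := by
    intro j
    obtain ⟨c, hc⟩ := hall ⟨A.mulVecLin (Pi.single j 1), LinearMap.mem_range_self _ _⟩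
    refine ⟨c, ?_⟩
    have := congrArg Subtype.val hc
    simp only [Submodule.coe_smul, mulVecLin_apply, mulVec_single_one] at this
    exact this
  choose c hc using hcol
  have hA : A = vecMulVec v c := by
    ext i j
    rw [vecMulVec_apply, mul_comm]
    exact (congrFun (hc j) i).symm
  refine ⟨v, c, hv0', ?_, hA⟩
  intro h0
  have hA0 : A = 0 := by
    rw [hA]
    ext i j
    rw [vecMulVec_apply, h0]
    exact mul_zero _
  obtain ⟨x, hx⟩ := hv
  apply hv0'
  rw [← hx, hA0]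
  simp

/-- two nonzero functionals are both nonzero somewhere -/
theorem exists_both {n : ℕ} {p q : Fin n → F} (hp : p ≠ 0) (hq : q ≠ 0) :
    ∃ x : Fin n → F, p ⬝ᵥ x = 1 ∧ q ⬝ᵥ x ≠ 0 := by
  have key : ∃ x : Fin n → F, p ⬝ᵥ x ≠ 0 ∧ q ⬝ᵥ x ≠ 0 := by
    obtain ⟨i, hi⟩ := Function.ne_iff.1 hp
    obtain ⟨j, hj⟩ := Function.ne_iff.1 hq
    by_cases h1 : q i = 0
    · by_cases h2 : p j = 0
      · refine ⟨Pi.single i 1 + Pi.single j 1, ?_, ?_⟩
        · rw [dotProduct_add, dotProduct_single_one, dotProduct_single_one, h2, add_zero]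
          exact hi
        · rw [dotProduct_add, dotProduct_single_one, dotProduct_single_one, h1, zero_add]
          exact hj
      · refine ⟨Pi.single j 1, ?_, ?_⟩
        · rwa [dotProduct_single_one]
        · rw [dotProduct_single_one]; exact hj
    · refine ⟨Pi.single i 1, ?_, ?_⟩
      · rw [dotProduct_single_one]; exact hi
      · rwa [dotProduct_single_one]
  obtain ⟨x, hx, hy⟩ := key
  refine ⟨(p ⬝ᵥ x)⁻¹ • x, ?_, ?_⟩
  · rw [dotProduct_smul, smul_eq_mul, inv_mul_cancel₀ hx]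
  · rw [dotProduct_smul, smul_eq_mul]
    exact mul_ne_zero (inv_ne_zero hx) hy

theorem det_one_add_vecMulVec {n : ℕ} (u v : Fin n → F) : (1 + vecMulVec u v).det = 1 + v ⬝ᵥ u := by
  rw [vecMulVec_eq Unit, det_one_add_replicateCol_mul_replicateRow]

/-- the orbits of `GL` on pairs (vector, functional) -/
theorem exists_conj {n : ℕ} {u u' φ φ' : Fin n → F} (hu : u ≠ 0) (hu' : u' ≠ 0) (hφ : φ ≠ 0) (hφ' : φ' ≠ 0)
    (h : φ ⬝ᵥ u = φ' ⬝ᵥ u') :
    ∃ S : Matrix (Fin n) (Fin n) F, IsUnit S.det ∧ S *ᵥ u' = u ∧ φ ᵥ* S = φ' := by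
  obtain ⟨ψ, h1, h2⟩ := exists_both hu' hu
  let S₁ : Matrix (Fin n) (Fin n) F := 1 + vecMulVec (u - u') ψ
  have hd₁ : S₁.det ≠ 0 := by
    show (1 + vecMulVec (u - u') ψ).det ≠ 0
    rw [det_one_add_vecMulVec, dotProduct_sub, dotProduct_comm ψ u, dotProduct_comm ψ u', h1]
    simpa using h2
  have hS₁ : S₁ *ᵥ u' = u := by
    show (1 + vecMulVec (u - u') ψ) *ᵥ u' = u
    rw [add_mulVec, one_mulVec, vecMulVec_mulVec, dotProduct_comm ψ u', h1, MulOpposite.op_one, one_smul]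
    abel
  have hU₁ : IsUnit S₁.det := isUnit_iff_ne_zero.2 hd₁
  let φ'' : Fin n → F := φ' ᵥ* S₁⁻¹
  have hφ'' : φ'' ᵥ* S₁ = φ' := by
    show (φ' ᵥ* S₁⁻¹) ᵥ* S₁ = φ'
    rw [vecMul_vecMul, nonsing_inv_mul _ hU₁, vecMul_one]
  have hφ''0 : φ'' ≠ 0 := by
    intro h0
    rw [h0, zero_vecMul] at hφ''
    exact hφ' hφ''.symm
  have h3 : φ'' ⬝ᵥ u = φ ⬝ᵥ u := by
    have e1 : φ'' ⬝ᵥ (S₁ *ᵥ u') = (φ'' ᵥ* S₁) ⬝ᵥ u' := dotProduct_mulVec φ'' S₁ u'
    rw [hS₁, hφ''] at e1
    rw [h, e1]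
  obtain ⟨x, h4, h5⟩ := exists_both hφ hφ''0
  let S₂ : Matrix (Fin n) (Fin n) F := 1 + vecMulVec x (φ'' - φ)
  have hd₂ : S₂.det ≠ 0 := by
    show (1 + vecMulVec x (φ'' - φ)).det ≠ 0
    rw [det_one_add_vecMulVec, sub_dotProduct, h4]
    simpa using h5
  refine ⟨S₂ * S₁, ?_, ?_, ?_⟩
  · rw [det_mul]
    exact isUnit_iff_ne_zero.2 (mul_ne_zero hd₂ hd₁)
  · rw [← mulVec_mulVec, hS₁]
    show (1 + vecMulVec x (φ'' - φ)) *ᵥ u = u
    rw [add_mulVec, one_mulVec, vecMulVec_mulVec, sub_dotProduct, h3, sub_self, MulOpposite.op_zero, zero_smul,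
      add_zero]
  · rw [← vecMul_vecMul]
    have : φ ᵥ* S₂ = φ'' := by
      show φ ᵥ* (1 + vecMulVec x (φ'' - φ)) = φ''
      rw [vecMul_add, vecMul_one, vecMul_vecMulVec, h4, one_smul]
      abel
    rw [this, hφ'']

/-- with an irreducible characteristic polynomial every nonzero vector is cyclic -/
theorem linearIndependent_pow {n : ℕ} (A : Matrix (Fin n) (Fin n) F) (hA : Irreducible A.charpoly) {v : Fin n → F}
    (hv : v ≠ 0) : LinearIndependent F (fun i : Fin n => (A ^ (i : ℕ)) *ᵥ v) := by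
  rw [Fintype.linearIndependent_iff]
  intro c hc
  let p : F[X] := ∑ i : Fin n, C (c i) * X ^ (i : ℕ)
  have hdeg : p.degree < (n : WithBot ℕ) := by
    have : p ∈ degreeLT F n := by
      refine Submodule.sum_mem _ fun i _ => ?_
      rw [mem_degreeLT]
      exact lt_of_le_of_lt (degree_C_mul_X_pow_le _ _) (by exact_mod_cast i.2)
    exact mem_degreeLT.1 this
  have hpv : (aeval A p) *ᵥ v = 0 := by
    rw [← hc]
    show (aeval A (∑ i : Fin n, C (c i) * X ^ (i : ℕ))) *ᵥ v = _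
    rw [map_sum, sum_mulVec]
    refine Finset.sum_congr rfl fun i _ => ?_
    rw [map_mul, map_pow, aeval_X, aeval_C, ← Algebra.smul_def, smul_mulVec]
  have hp0 : p = 0 := by
    by_contra hp
    have hcop : IsCoprime A.charpoly p := by
      rw [hA.coprime_iff_not_dvd]
      intro hd
      have h1 := degree_le_of_dvd hd hp
      rw [A.charpoly_degree_eq_dim, Fintype.card_fin] at h1
      exact absurd hdeg (not_lt.2 h1)
    obtain ⟨a, b, hab⟩ := hcop
    have h1 := congrArg (aeval A) hab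
    rw [map_add, map_mul, map_mul, Matrix.aeval_self_charpoly, mul_zero, zero_add, map_one] at h1
    apply hv
    rw [← one_mulVec v, ← h1, ← mulVec_mulVec, hpv, mulVec_zero]
  intro i
  have h1 : p.coeff (i : ℕ) = c i := by
    show (∑ j : Fin n, C (c j) * X ^ (j : ℕ)).coeff (i : ℕ) = c i
    rw [finsetSum_coeff, Finset.sum_eq_single i]
    · rw [coeff_C_mul, coeff_X_pow, if_pos rfl, mul_one]
    · intro j _ hj
      rw [coeff_C_mul, coeff_X_pow, if_neg (fun h => hj (Fin.ext h).symm), mul_zero]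
    · intro h
      exact absurd (Finset.mem_univ i) h
  rw [← h1, hp0, coeff_zero]

theorem obs_of_irreducible {n : ℕ} (A : Matrix (Fin n) (Fin n) F) (hA : Irreducible A.charpoly) {w : Fin n → F}
    (hw : w ≠ 0) : Obs A w := by
  intro v hv
  by_contra h0
  have hli := linearIndependent_pow A hA h0
  have hspan := hli.span_eq_top_of_card_eq_finrank' (by rw [Fintype.card_fin, Module.finrank_fin_fun])
  apply hw
  have h1 : ∀ x : Fin n → F, w ⬝ᵥ x = 0 := by
    intro x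
    have hx : x ∈ Submodule.span F (Set.range fun i : Fin n => (A ^ (i : ℕ)) *ᵥ v) := by
      rw [hspan]; trivial
    induction hx using Submodule.span_induction with
    | mem x hx => obtain ⟨i, rfl⟩ := hx; exact hv i
    | zero => exact dotProduct_zero w
    | add x y _ _ hx hy => rw [dotProduct_add, hx, hy, add_zero]
    | smul a x _ hx => rw [dotProduct_smul, hx, smul_zero]
  funext i
  have := h1 (Pi.single i 1)
  rwa [dotProduct_single_one] at this

theorem obs_smul {n : ℕ} {A : Matrix (Fin n) (Fin n) F} {w : Fin n → F} (h : Obs A w) {c : F} (hc : c ≠ 0) :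
    Obs (c • A) w := by
  intro v hv
  apply h
  intro i
  have h1 := hv i
  rw [_root_.smul_pow, smul_mulVec, dotProduct_smul, smul_eq_mul] at h1
  exact (mul_eq_zero.1 h1).resolve_left (pow_ne_zero _ hc)

/-- `n` independent polynomials of degree `< n` span -/
theorem exists_comb {n : ℕ} (p : Fin n → F[X]) (hp : ∀ j, p j ∈ degreeLT F n) (hl : LinearIndependent F p) (q : F[X])
    (hq : q ∈ degreeLT F n) : ∃ c : Fin n → F, ∑ j, c j • p j = q := by
  let Φ : (Fin n → F) →ₗ[F] (Fin n → F) :=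
    LinearMap.pi fun i => (lcoeff F (i : ℕ)) ∘ₗ (Fintype.linearCombination F p)
  have hΦ : ∀ c i, Φ c i = (∑ j, c j • p j).coeff (i : ℕ) := by
    intro c i
    rfl
  have ext0 : ∀ r : F[X], r ∈ degreeLT F n → (∀ i : Fin n, r.coeff (i : ℕ) = 0) → r = 0 := by
    intro r hr h0
    ext k
    rw [coeff_zero]
    by_cases hk : k < n
    · exact h0 ⟨k, hk⟩
    · rw [mem_degreeLT] at hr
      exact coeff_eq_zero_of_degree_lt (lt_of_lt_of_le hr (by exact_mod_cast not_lt.1 hk))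
  have hmem : ∀ c : Fin n → F, (∑ j, c j • p j) ∈ degreeLT F n := fun c =>
    Submodule.sum_mem _ fun j _ => Submodule.smul_mem _ _ (hp j)
  have hinj : Function.Injective Φ := by
    rw [injective_iff_map_eq_zero]
    intro c hc
    have h1 : ∑ j, c j • p j = 0 := ext0 _ (hmem c) fun i => by rw [← hΦ, hc]; rfl
    funext i
    exact Fintype.linearIndependent_iff.1 hl c h1 i
  obtain ⟨c, hc⟩ := (LinearMap.injective_iff_surjective.1 hinj) (fun i => q.coeff (i : ℕ))
  refine ⟨c, ?_⟩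
  rw [← sub_eq_zero]
  refine ext0 _ (Submodule.sub_mem _ (hmem c) hq) fun i => ?_
  rw [coeff_sub, ← hΦ, hc, sub_self]

/-- characteristic polynomial of a rank one update -/
theorem charpoly_add_vecMulVec {n : ℕ} (M : Matrix (Fin n) (Fin n) F) (w φ : Fin n → F) :
    (M + vecMulVec w φ).charpoly =
      M.charpoly - (C ∘ φ) ⬝ᵥ (M.charmatrix.adjugate *ᵥ (C ∘ w)) := by
  have h1 : M.charmatrix.det ≠ 0 := M.charpoly_monic.ne_zero
  have h2 := det_rank1 (n := Unit) M.charmatrix (replicateCol Unit (C ∘ w : Fin n → F[X])) 1 1 (fun _ => 1)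
    (C ∘ φ : Fin n → F[X]) h1 (by rw [det_one]; exact one_ne_zero)
  rw [det_fromBlocks_one₂₂, one_smul, det_one, mul_one, one_mul, adjugate_one, one_mulVec] at h2
  have h3 : replicateCol Unit (C ∘ w : Fin n → F[X]) *ᵥ (fun _ => (1 : F[X])) = (C ∘ w : Fin n → F[X]) := by
    funext i
    simp [mulVec, dotProduct]
  rw [h3] at h2
  rw [Matrix.charpoly, Matrix.charpoly, ← h2]
  congr 1
  ext i j
  simp [charmatrix_apply, vecMulVec, Matrix.mul_apply]
  ring

/-- pole placement from an observable pair -/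
theorem exists_charpoly {n : ℕ} (M : Matrix (Fin n) (Fin n) F) (hM : M.det ≠ 0) (w : Fin n → F)
    (hobs : Obs (Mᵀ)⁻¹ w) (g : F[X]) (hg : g.Monic) (hgn : g.natDegree = n) :
    ∃ φ : Fin n → F, (M + vecMulVec w φ).charpoly = g := by
  have hpen : pen (1 : Matrix (Fin n) (Fin n) F) Mᵀ = M.charmatrixᵀ := by
    rw [pen]
    ext i j : 2
    simp only [Matrix.add_apply, Matrix.smul_apply, Matrix.map_apply, Matrix.transpose_apply, Matrix.neg_apply,
      charmatrix_apply, Matrix.diagonal_apply, Matrix.one_apply]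
    by_cases h : i = j
    · subst h
      simp [sub_eq_add_neg]
    · simp [h, Ne.symm h]
  have hrow : ∀ j, Cfsg.Agent.H957.TL.row w 1 Mᵀ j = (M.charmatrix.adjugate *ᵥ (C ∘ w)) j := by
    intro j
    rw [Cfsg.Agent.H957.TL.row, hpen, ← adjugate_transpose, vecMul_transpose]
  have hdet : (Mᵀ).det ≠ 0 := by rwa [det_transpose]
  have hli : LinearIndependent F (Cfsg.Agent.H957.TL.row w 1 Mᵀ) := row_indep hdet (by rwa [Matrix.mul_one])
  have hq : g - M.charpoly ∈ degreeLT F n := by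
    rw [mem_degreeLT]
    have h1 : g.degree = (n : WithBot ℕ) := by rw [degree_eq_natDegree hg.ne_zero, hgn]
    have h2 : M.charpoly.degree = (n : WithBot ℕ) := by rw [M.charpoly_degree_eq_dim, Fintype.card_fin]
    rw [← h1]
    exact degree_sub_lt_left (h1.trans h2.symm) hg.ne_zero (by rw [hg.leadingCoeff, M.charpoly_monic.leadingCoeff])
  obtain ⟨c, hc⟩ := exists_comb _ (row_mem w 1 Mᵀ) hli _ hq
  refine ⟨-c, ?_⟩
  rw [charpoly_add_vecMulVec]
  have h3 : ((C ∘ (-c)) : Fin n → F[X]) ⬝ᵥ (M.charmatrix.adjugate *ᵥ (C ∘ w)) = -(g - M.charpoly) := by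
    rw [← hc, dotProduct, ← Finset.sum_neg_distrib]
    refine Finset.sum_congr rfl fun j _ => ?_
    rw [← hrow, smul_eq_C_mul, Function.comp_apply, Pi.neg_apply, map_neg, neg_mul]
  rw [h3]
  ring

theorem det_smul_one_add {n : ℕ} {a : F} (ha : a ≠ 0) (u φ : Fin n → F) :
    (a • (1 : Matrix (Fin n) (Fin n) F) + vecMulVec u φ).det = a ^ n * (1 + a⁻¹ * (φ ⬝ᵥ u)) := by
  have h1 : a • (1 : Matrix (Fin n) (Fin n) F) + vecMulVec u φ = a • (1 + vecMulVec (a⁻¹ • u) φ) := by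
    rw [smul_add, smul_vecMulVec, smul_smul, mul_inv_cancel₀ ha, one_smul]
  rw [h1, det_smul, Fintype.card_fin, det_one_add_vecMulVec, dotProduct_smul, smul_eq_mul]

/-- **the factorization of `a + u φ`** -/
theorem factor_vecMulVec {n : ℕ} (hn : 2 ≤ n) (a : F) (ha : a ≠ 0) (u φ : Fin n → F) (hu : u ≠ 0) (hφ : φ ≠ 0)
    (f g : F[X]) (hf : Irreducible f) (hg : g.Monic) (hgn : g.natDegree = n)
    (hdet : f.coeff 0 * g.coeff 0 = (a • (1 : Matrix (Fin n) (Fin n) F) + vecMulVec u φ).det)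
    (X₀ : Matrix (Fin n) (Fin n) F) (hX : X₀.charpoly = f) (hne : (a • X₀⁻¹).charpoly ≠ g) :
    ∃ X Y : Matrix (Fin n) (Fin n) F,
      X * Y = a • (1 : Matrix (Fin n) (Fin n) F) + vecMulVec u φ ∧ X.charpoly = f ∧ Y.charpoly = g := by
  subst hX
  have hndeg : X₀.charpoly.natDegree = n := by rw [X₀.charpoly_natDegree_eq_dim, Fintype.card_fin]
  have hc0 : X₀.charpoly.coeff 0 ≠ 0 := by
    intro h0
    have h1 : (X : F[X]) ∣ X₀.charpoly := X_dvd_iff.2 h0
    have h2 := (irreducible_X (R := F)).dvd_irreducible_iff_associated hf |>.1 h1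
    have h3 := natDegree_eq_of_degree_eq (degree_eq_degree_of_associated h2)
    rw [natDegree_X, hndeg] at h3
    omega
  have hd0 : X₀.det ≠ 0 := by
    rw [det_eq_sign_charpoly_coeff]
    exact mul_ne_zero (pow_ne_zero _ (neg_ne_zero.2 one_ne_zero)) hc0
  have hU0 : IsUnit X₀.det := isUnit_iff_ne_zero.2 hd0
  let M : Matrix (Fin n) (Fin n) F := a • X₀⁻¹
  have hXM : X₀ * M = a • (1 : Matrix (Fin n) (Fin n) F) := by
    show X₀ * (a • X₀⁻¹) = _
    rw [Matrix.mul_smul, mul_nonsing_inv _ hU0]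
  have hMd : M.det ≠ 0 := by
    intro h0
    have h1 := congrArg Matrix.det hXM
    rw [det_mul, h0, mul_zero, det_smul, det_one, mul_one] at h1
    exact pow_ne_zero _ ha h1.symm
  have hMT : (Mᵀ)⁻¹ = a⁻¹ • X₀ᵀ := by
    apply inv_eq_left_inv
    rw [Matrix.smul_mul, ← transpose_mul]
    have h1 : M * X₀ = a • (1 : Matrix (Fin n) (Fin n) F) := by
      show (a • X₀⁻¹) * X₀ = _
      rw [Matrix.smul_mul, nonsing_inv_mul _ hU0]
    rw [h1, transpose_smul, transpose_one, smul_smul, inv_mul_cancel₀ ha, one_smul]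
  have hobs : Obs (Mᵀ)⁻¹ u := by
    rw [hMT]
    refine obs_smul (obs_of_irreducible _ ?_ hu) (inv_ne_zero ha)
    rwa [charpoly_transpose]
  obtain ⟨φ', hφ'⟩ := exists_charpoly M hMd u hobs g hg hgn
  have hφ'0 : φ' ≠ 0 := by
    intro h0
    apply hne
    rw [← hφ', h0]
    congr 1
    ext i j
    rw [Matrix.add_apply, vecMulVec_apply, Pi.zero_apply, mul_zero, add_zero]
  let Y₀ : Matrix (Fin n) (Fin n) F := M + vecMulVec u φ'
  have hA' : X₀ * Y₀ = a • (1 : Matrix (Fin n) (Fin n) F) + vecMulVec (X₀ *ᵥ u) φ' := by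
    show X₀ * (M + vecMulVec u φ') = _
    rw [Matrix.mul_add, hXM, mul_vecMulVec]
  have hu'0 : X₀ *ᵥ u ≠ 0 := by
    intro h0
    apply hu
    rw [← one_mulVec u, ← nonsing_inv_mul _ hU0, ← mulVec_mulVec, h0, mulVec_zero]
  have hdd : φ ⬝ᵥ u = φ' ⬝ᵥ (X₀ *ᵥ u) := by
    have h1 := congrArg Matrix.det hA'
    rw [det_mul, det_eq_sign_charpoly_coeff X₀, det_eq_sign_charpoly_coeff Y₀, hφ', Fintype.card_fin,
      mul_mul_mul_comm, ← mul_pow, neg_one_mul, neg_neg, one_pow, one_mul, hdet, det_smul_one_add ha,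
      det_smul_one_add ha] at h1
    have h2 := mul_left_cancel₀ (pow_ne_zero _ ha) h1
    exact mul_left_cancel₀ (inv_ne_zero ha) (add_left_cancel h2)
  obtain ⟨S, hS, hS1, hS2⟩ := exists_conj hu hu'0 hφ hφ'0 hdd
  let U : (Matrix (Fin n) (Fin n) F)ˣ := S.nonsingInvUnit hS
  have hUv : (U : Matrix (Fin n) (Fin n) F) = S := rfl
  refine ⟨S * X₀ * S⁻¹, S * Y₀ * S⁻¹, ?_, ?_, ?_⟩
  · have h1 : S * X₀ * S⁻¹ * (S * Y₀ * S⁻¹) = S * (X₀ * Y₀) * S⁻¹ := by
      rw [show S * X₀ * S⁻¹ * (S * Y₀ * S⁻¹) = S * X₀ * (S⁻¹ * S) * Y₀ * S⁻¹ by simp only [Matrix.mul_assoc],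
        nonsing_inv_mul _ hS, Matrix.mul_one]
      simp only [Matrix.mul_assoc]
    rw [h1, hA', Matrix.mul_add, Matrix.add_mul, Matrix.mul_smul, Matrix.smul_mul, Matrix.mul_one,
      mul_nonsing_inv _ hS, mul_vecMulVec, hS1, vecMulVec_mul]
    congr 2
    rw [← hS2, vecMul_vecMul, mul_nonsing_inv _ hS, vecMul_one]
  · have := charpoly_units_conj U X₀
    rwa [hUv] at this
  · have := charpoly_units_conj U Y₀
    rw [hUv] at this
    rw [this]
    exact hφ'

/-- **the rank one case of the factorization** -/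
theorem factor_rank_one {n : ℕ} (hn : 2 ≤ n) (A : Matrix (Fin n) (Fin n) F) (a : F) (ha : a ≠ 0)
    (hA : (A - Matrix.scalar (Fin n) a).rank = 1) (f g : F[X]) (hf : Irreducible f)
    (hg : g.Monic) (hgn : g.natDegree = n) (hdet : f.coeff 0 * g.coeff 0 = A.det)
    (X₀ : Matrix (Fin n) (Fin n) F) (hX : X₀.charpoly = f) (hne : (a • X₀⁻¹).charpoly ≠ g) :
    ∃ X Y : Matrix (Fin n) (Fin n) F, X * Y = A ∧ X.charpoly = f ∧ Y.charpoly = g := by
  obtain ⟨u, φ, hu, hφ, h⟩ := exists_vecMulVec _ hA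
  have hA' : A = a • (1 : Matrix (Fin n) (Fin n) F) + vecMulVec u φ := by
    rw [← h, scalar_apply, smul_one_eq_diagonal]
    abel
  rw [hA'] at hdet ⊢
  exact factor_vecMulVec hn a ha u φ hu hφ f g hf hg hgn hdet X₀ hX hne

end Cfsg.Agent.H376.TL
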