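import Mathlib

/-!
# The Sylvester equation `B M - M E = Q` (helper376, for Theorem L of helper957)
-/

set_option autoImplicit false

namespace Cfsg.Agent.H376.TL

open Matrix Polynomial

theorem aeval_intertwine {F : Type*} [Field F] {k r : ℕ} (B : Matrix (Fin k) (Fin k) F)
    (E : Matrix (Fin r) (Fin r) F) (M : Matrix (Fin k) (Fin r) F) (h : B * M = M * E) (p : F[X]) :
    aeval B p * M = M * aeval E p := by
  have hp : ∀ n : ℕ, B ^ n * M = M * E ^ n := by
    intro n
    induction n with
    | zero => rw [pow_zero, pow_zero, Matrix.one_mul, Matrix.mul_one]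
    | succ n ih => rw [pow_succ, Matrix.mul_assoc, h, ← Matrix.mul_assoc, ih, Matrix.mul_assoc, ← pow_succ]
  induction p using Polynomial.induction_on' with
  | add p q hp hq => rw [map_add, map_add, Matrix.add_mul, Matrix.mul_add, hp, hq]
  | monomial n a =>
    rw [aeval_monomial, aeval_monomial, ← Algebra.smul_def, ← Algebra.smul_def, Matrix.smul_mul,
      Matrix.mul_smul, hp]

/-- The Sylvester equation is solvable when the two characteristic polynomials are coprime. -/
theorem sylvester {F : Type*} [Field F] {k r : ℕ} (B : Matrix (Fin k) (Fin k) F)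
    (E : Matrix (Fin r) (Fin r) F) (h : IsCoprime B.charpoly E.charpoly)
    (Q : Matrix (Fin k) (Fin r) F) : ∃ M : Matrix (Fin k) (Fin r) F, B * M - M * E = Q := by
  let T : Matrix (Fin k) (Fin r) F →ₗ[F] Matrix (Fin k) (Fin r) F :=
    { toFun := fun M => B * M - M * E
      map_add' := fun M N => by rw [Matrix.mul_add, Matrix.add_mul]; abel
      map_smul' := fun c M => by
        rw [Matrix.mul_smul, Matrix.smul_mul, RingHom.id_apply, smul_sub] }
  have hinj : Function.Injective T := by
    rw [injective_iff_map_eq_zero]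
    intro M hM
    have hM' : B * M = M * E := sub_eq_zero.1 hM
    obtain ⟨a, b, hab⟩ := h
    have h1 := congrArg (aeval B) hab
    rw [map_add, map_mul, map_mul, Matrix.aeval_self_charpoly, mul_zero, zero_add, map_one] at h1
    have h2 : (1 : Matrix (Fin k) (Fin k) F) * M = 0 := by
      rw [← h1, Matrix.mul_assoc, aeval_intertwine B E M hM', Matrix.aeval_self_charpoly,
        Matrix.mul_zero, Matrix.mul_zero]
    rwa [Matrix.one_mul] at h2
  obtain ⟨M, hM⟩ := (LinearMap.injective_iff_surjective.1 hinj) Q
  exact ⟨M, hM⟩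

end Cfsg.Agent.H376.TL
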